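import Groth.Agent.Sibling.Base

/-!
# Siblings: existence of objectwise isomorphisms, and transfer of full faithfulness
-/

set_option autoImplicit false
set_option linter.style.haveILetI false
set_option linter.unusedSectionVars false
set_option backward.isDefEq.respectTransparency false
set_option backward.isDefEq.respectTransparency.types false

universe w v u v' u'

open CategoryTheory Category Limits Pretriangulated DerivedCategory
open DerivedCategory.TStructure (t)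

namespace Groth.Agent.Sibling

variable {A : Type u} [Category.{v} A] [Abelian A] [HasDerivedCategory.{w} A]
  {D : Type u'} [Category.{v'} D] [Preadditive D] [HasZeroObject D] [HasShift D ℤ]
  [∀ n : ℤ, (shiftFunctor D n).Additive] [Pretriangulated D]
  {F F' : Db A ⥤ D} [F.CommShift ℤ] [F'.CommShift ℤ] [F.IsTriangulated] [F'.IsTriangulated]

/-- induction on bounded objects along covers of the top degree -/
lemma induction_top {motive : Db A → ℤ → Prop}
    (single : ∀ (s : ℤ) (M : A) (K : Db A), (K ≅ (S s).obj M) → motive K s)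
    (step : ∀ (s : ℤ) (n : ℕ) (P : A) (K C : Db A) (u : (S s).obj P ⟶ K) (π : K ⟶ C)
      (δ : C ⟶ ((S s).obj P)⟦(1 : ℤ)⟧), Triangle.mk u π δ ∈ distTriang (Db A) →
      In K (-s - (n + 1 : ℕ)) (-s) → In C (-(s + 1) - n) (-(s + 1)) → motive C (s + 1) → motive K s)
    (n : ℕ) : ∀ (s : ℤ) (K : Db A), In K (-s - n) (-s) → motive K s := by
  induction n with
  | zero =>
    intro s K hK
    obtain ⟨M, ⟨i⟩⟩ := exists_iso_S (hK.mono (by simp) le_rfl)
    exact single s M K i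
  | succ n ih =>
    intro s K hK
    obtain ⟨P, u, hu⟩ := exists_isTop s hK
    obtain ⟨C, π, δ, hT, hC⟩ := exists_cone hK u hu
    have hC' : In C (-(s + 1) - n) (-(s + 1)) := hC.mono (by push_cast; omega) (by omega)
    exact step s n P K C u π δ hT hK hC' (ih _ _ hC')

section Siblings

variable (e : DEquiv.singleB A ⋙ F ≅ DEquiv.singleB A ⋙ F')
  (hv : ∀ (X Y : A) (q : ℤ), q < 0 →
    ∀ f : F.obj ((DEquiv.singleB A).obj X) ⟶ (F.obj ((DEquiv.singleB A).obj Y))⟦q⟧, f = 0)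

include hv in
lemma vanish_single {s s' : ℤ} (h : s < s') {M N : A} (f : F.obj ((S s').obj M) ⟶ F.obj ((S s).obj N)) :
    f = 0 := by
  rw [← cancel_epi ((F.commShiftIso s').inv.app _), ← cancel_mono ((F.commShiftIso s).hom.app _), comp_zero,
    zero_comp]
  let g : (F.obj ((DEquiv.singleB A).obj M))⟦s'⟧ ⟶ (F.obj ((DEquiv.singleB A).obj N))⟦s⟧ :=
    ((F.commShiftIso s').inv.app _ ≫ f) ≫ (F.commShiftIso s).hom.app _
  change g = 0
  obtain ⟨g', hg'⟩ := (shiftFunctor D s').map_surjective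
    (g ≫ (shiftFunctorAdd' D (s - s') s' s (by omega)).hom.app _)
  rw [hv M N (s - s') (by omega) g', Functor.map_zero] at hg'
  rw [← cancel_mono ((shiftFunctorAdd' D (s - s') s' s (by omega)).hom.app
    (F.obj ((DEquiv.singleB A).obj N))), zero_comp, ← hg']

include hv in
lemma vanish {n : ℕ} {s : ℤ} {C : Db A} (hC : In C (-s - n) (-s)) : ∀ (s₀ : ℤ), s₀ < s →
    ∀ (M : A) (f : F.obj C ⟶ F.obj ((S s₀).obj M)), f = 0 := by
  refine induction_top (motive := fun C s => ∀ (s₀ : ℤ), s₀ < s →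
    ∀ (M : A) (f : F.obj C ⟶ F.obj ((S s₀).obj M)), f = 0) ?_ ?_ n s C hC
  · intro s M K i s₀ h N f
    rw [← cancel_epi (F.map i.inv), comp_zero]
    exact vanish_single hv h _
  · intro s n P K C u π δ hT _ _ ih s₀ h M f
    obtain ⟨g, hg⟩ := Triangle.yoneda_exact₂ _ (F.map_distinguished _ hT) f (vanish_single hv h _)
    let g' : F.obj C ⟶ F.obj ((S s₀).obj M) := g
    rw [hg]
    change F.map π ≫ g' = 0
    rw [ih s₀ (by omega) M g', comp_zero]

include e hv in
lemma exists_iso {n : ℕ} {s : ℤ} {K : Db A} (hK : In K (-s - n) (-s)) :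
    ∃ c : F.obj K ⟶ F'.obj K, IsIso c ∧
      ∀ (M : A) (g : K ⟶ (S s).obj M), Compat g c (phi e s M) := by
  refine induction_top (motive := fun K s => ∃ c : F.obj K ⟶ F'.obj K, IsIso c ∧
      ∀ (M : A) (g : K ⟶ (S s).obj M), Compat g c (phi e s M)) ?_ ?_ n s K hK
  · intro s M₀ K i
    refine ⟨F.map i.hom ≫ phi e s M₀ ≫ F'.map i.inv, inferInstance, fun M g => ?_⟩
    have hi : Compat i.hom (F.map i.hom ≫ phi e s M₀ ≫ F'.map i.inv) (phi e s M₀) := by
      simp [Compat, ← Functor.map_comp]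
    obtain ⟨q, hq⟩ := S_map_surjective s (i.inv ≫ g)
    have := hi.comp (compat_S_map e s q)
    rw [hq] at this
    simpa using this
  · rintro s n P K C u π δ hT hK hC ⟨c', hc'i, hc'⟩
    let j : ((S s).obj P)⟦(1 : ℤ)⟧ ≅ (S (s + 1)).obj P :=
      ((shiftFunctorAdd' (Db A) s 1 (s + 1) rfl).app _).symm
    have hj : Compat j.hom (sh F F' (phi e s P) 1) (phi e (s + 1) P) := compat_shiftAdd _ rfl
    have hδ : Compat δ c' (sh F F' (phi e s P) 1) := by
      have := (hc' P (δ ≫ j.hom)).comp hj.of_iso_hom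
      simpa using this
    have hδ' : (F.map δ ≫ (F.commShiftIso (1 : ℤ)).hom.app ((S s).obj P)) ≫ (phi e s P)⟦(1 : ℤ)⟧' =
        c' ≫ F'.map δ ≫ (F'.commShiftIso (1 : ℤ)).hom.app ((S s).obj P) := by
      unfold Compat sh at hδ
      rw [← cancel_mono ((F'.commShiftIso (1 : ℤ)).inv.app ((S s).obj P))]
      simp only [assoc, Iso.hom_inv_id_app]
      simpa using hδ
    obtain ⟨c₀, hc₁, hc₂⟩ := complete_distinguished_triangle_morphism₂ _ _ (F.map_distinguished _ hT)
      (F'.map_distinguished _ hT) (phi e s P) c' hδ'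
    let c : F.obj K ⟶ F'.obj K := c₀
    change F.map u ≫ c = phi e s P ≫ F'.map u at hc₁
    let φT : F.mapTriangle.obj (Triangle.mk u π δ) ⟶ F'.mapTriangle.obj (Triangle.mk u π δ) :=
      { hom₁ := phi e s P, hom₂ := c₀, hom₃ := c', comm₁ := hc₁, comm₂ := hc₂, comm₃ := hδ' }
    refine ⟨c, isIso₂_of_isIso₁₃ φT
      (F.map_distinguished _ hT) (F'.map_distinguished _ hT) inferInstance hc'i, fun M g => ?_⟩
    obtain ⟨q, hq⟩ := S_map_surjective s (u ≫ g)
    have hug : Compat (u ≫ g) (phi e s P) (phi e s M) := hq ▸ compat_S_map e s q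
    unfold Compat at hug ⊢
    obtain ⟨d₀, hd⟩ := Triangle.yoneda_exact₂ _ (F.map_distinguished _ hT)
      (F.map g ≫ phi e s M - c ≫ F'.map g) (by
        change F.map u ≫ (F.map g ≫ phi e s M - c ≫ F'.map g) = 0
        rw [Preadditive.comp_sub, ← F.map_comp_assoc, hug, reassoc_of% hc₁, F'.map_comp, sub_self])
    let d : F.obj C ⟶ F'.obj ((S s).obj M) := d₀
    have hd0 : d = 0 := by
      rw [← cancel_mono (inv (phi e s M)), zero_comp]
      exact vanish hv hC s (by omega) M _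
    rw [← sub_eq_zero, hd]
    change F.map π ≫ d = 0
    rw [hd0, comp_zero]

include e hv in
/-- sibling criterion: no negative Ext groups between the values on the heart -/
theorem iso_obj (K : Db A) : Nonempty (F.obj K ≅ F'.obj K) := by
  obtain ⟨a, b, h⟩ := exists_in K
  obtain ⟨c, hc, -⟩ := exists_iso e hv (n := (b - a).toNat) (s := -b) (h.mono (by omega) (by omega))
  exact ⟨asIso c⟩

end Siblings

section FullyFaithful

variable (G : Db A ⥤ D) [G.CommShift ℤ] [G.IsTriangulated]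

/-- `G` is bijective on morphisms from `X` to `Y` -/
def Bij (X Y : Db A) : Prop := Function.Bijective (G.map : (X ⟶ Y) → _)

lemma Bij.of_iso {X X' Y Y' : Db A} (i : X ≅ X') (i' : Y ≅ Y') (h : Bij G X Y) : Bij G X' Y' := by
  refine ⟨fun a b hab => ?_, fun c => ?_⟩
  · have := h.1 (a₁ := i.hom ≫ a ≫ i'.inv) (a₂ := i.hom ≫ b ≫ i'.inv) (by simp [hab])
    simpa using this
  · obtain ⟨a, ha⟩ := h.2 (G.map i.hom ≫ c ≫ G.map i'.inv)
    refine ⟨i.inv ≫ a ≫ i'.hom, ?_⟩
    rw [Functor.map_comp, Functor.map_comp, ha]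
    simp only [assoc, ← Functor.map_comp, ← Functor.map_comp_assoc, Iso.inv_hom_id,
      CategoryTheory.Functor.map_id, id_comp, comp_id]

lemma Bij.target {X : Db A} (T : Triangle (Db A)) (hT : T ∈ distTriang (Db A)) (h₁ : Bij G X T.obj₁)
    (h₃ : Bij G X T.obj₃) (h₁' : Bij G X (T.obj₁⟦(1 : ℤ)⟧)) (h₃' : Bij G X (T.obj₃⟦(-1 : ℤ)⟧)) :
    Bij G X T.obj₂ := by
  have hT' := G.map_distinguished _ hT
  refine ⟨fun a b hab => sub_eq_zero.1 ?_, fun y => ?_⟩
  · have h0 : G.map (a - b) = 0 := by rw [Functor.map_sub, hab, sub_self]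
    obtain ⟨z, hz⟩ := Triangle.coyoneda_exact₂ _ hT (a - b)
      (h₃.1 (by rw [Functor.map_comp, h0, zero_comp, Functor.map_zero]))
    obtain ⟨v, hv⟩ := Triangle.coyoneda_exact₂ _ (G.map_distinguished _ (inv_rot_of_distTriang _ hT)) (G.map z) (by
      change G.map z ≫ G.map T.mor₁ = 0
      rw [← Functor.map_comp, ← hz, h0])
    obtain ⟨v₀, rfl⟩ := h₃'.2 v
    have hzv : z = v₀ ≫ T.invRotate.mor₁ := h₁.1 (by rw [hv, Functor.map_comp]; rfl)
    rw [hz, hzv, assoc]
    exact (congrArg (v₀ ≫ ·) (comp_distTriang_mor_zero₁₂ _ (inv_rot_of_distTriang _ hT))).trans comp_zero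
  · obtain ⟨a, ha⟩ := h₃.2 (y ≫ G.map T.mor₂)
    obtain ⟨b, hb⟩ := Triangle.coyoneda_exact₃ _ hT a (h₁'.1 (by
      rw [Functor.map_comp, ha, assoc, ← Functor.map_comp, comp_distTriang_mor_zero₂₃ _ hT, Functor.map_zero,
        comp_zero, Functor.map_zero]))
    obtain ⟨c, hc⟩ := Triangle.coyoneda_exact₂ _ hT' (y - G.map b) (by
      change (y - G.map b) ≫ G.map T.mor₂ = 0
      rw [Preadditive.sub_comp, ← Functor.map_comp, ← hb, ha, sub_self])
    obtain ⟨d, rfl⟩ := h₁.2 c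
    refine ⟨b + d ≫ T.mor₁, ?_⟩
    rw [Functor.map_add, Functor.map_comp]
    exact (add_eq_of_eq_sub' hc.symm)

lemma Bij.source {Y : Db A} (T : Triangle (Db A)) (hT : T ∈ distTriang (Db A)) (h₁ : Bij G T.obj₁ Y)
    (h₃ : Bij G T.obj₃ Y) (h₁' : Bij G (T.obj₁⟦(1 : ℤ)⟧) Y) (h₃' : Bij G (T.obj₃⟦(-1 : ℤ)⟧) Y) :
    Bij G T.obj₂ Y := by
  have hT' := G.map_distinguished _ hT
  refine ⟨fun a b hab => sub_eq_zero.1 ?_, fun y => ?_⟩
  · have h0 : G.map (a - b) = 0 := by rw [Functor.map_sub, hab, sub_self]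
    obtain ⟨z, hz⟩ := Triangle.yoneda_exact₂ _ hT (a - b)
      (h₁.1 (by rw [Functor.map_comp, h0, comp_zero, Functor.map_zero]))
    obtain ⟨v, hv⟩ := Triangle.yoneda_exact₃ _ hT' (G.map z) (by
      change G.map T.mor₂ ≫ G.map z = 0
      rw [← Functor.map_comp, ← hz, h0])
    obtain ⟨v₀, hv₀⟩ := h₁'.2 ((G.commShiftIso (1 : ℤ)).hom.app T.obj₁ ≫ v)
    have hzv : z = T.mor₃ ≫ v₀ := h₃.1 (by
      rw [hv, Functor.map_comp, hv₀]
      change (G.map T.mor₃ ≫ (G.commShiftIso (1 : ℤ)).hom.app T.obj₁) ≫ v = _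
      exact assoc _ _ _)
    rw [hz, hzv, ← assoc, comp_distTriang_mor_zero₂₃ _ hT, zero_comp]
  · obtain ⟨a, ha⟩ := h₁.2 (G.map T.mor₁ ≫ y)
    obtain ⟨b₀, hb⟩ := Triangle.yoneda_exact₂ _ (inv_rot_of_distTriang _ hT) a (h₃'.1 (by
      rw [Functor.map_comp, ha, ← assoc, ← Functor.map_comp]
      rw [Functor.map_zero]
      convert zero_comp
      exact (congrArg G.map (comp_distTriang_mor_zero₁₂ _ (inv_rot_of_distTriang _ hT))).trans
        (Functor.map_zero _ _ _)))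
    let b : T.obj₂ ⟶ Y := b₀
    change a = T.mor₁ ≫ b at hb
    obtain ⟨c, hc⟩ := Triangle.yoneda_exact₂ _ hT' (y - G.map b) (by
      change G.map T.mor₁ ≫ (y - G.map b) = 0
      rw [Preadditive.comp_sub, ← Functor.map_comp, ← hb, ha, sub_self])
    obtain ⟨d, rfl⟩ := h₃.2 c
    refine ⟨b + T.mor₂ ≫ d, ?_⟩
    rw [Functor.map_add, Functor.map_comp]
    exact (add_eq_of_eq_sub' hc.symm)

/-- full faithfulness is detected on shifted objects of the heart -/
lemma bij_of_single (h : ∀ (s s' : ℤ) (M N : A), Bij G ((S s).obj M) ((S s').obj N)) (X Y : Db A) :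
    Bij G X Y := by
  have inS : ∀ (s m : ℤ) (M : A), Nonempty (((S s).obj M)⟦m⟧ ≅ (S (s + m)).obj M) := fun s m M =>
    ⟨((shiftFunctorAdd' (Db A) s m (s + m) rfl).app _).symm⟩
  have h₁ : ∀ (n : ℕ) (s : ℤ) (K : Db A), In K (-s - n) (-s) →
      ∀ (m : ℤ) (s₀ : ℤ) (M : A), Bij G ((S s₀).obj M) (K⟦m⟧) := fun n s K hK => by
    refine induction_top (motive := fun K _ => ∀ (m : ℤ) (s₀ : ℤ) (M : A), Bij G ((S s₀).obj M) (K⟦m⟧))
      ?_ ?_ n s K hK
    · intro s N K i m s₀ M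
      obtain ⟨j⟩ := inS s m N
      exact (h s₀ (s + m) M N).of_iso G (Iso.refl _) (((shiftFunctor (Db A) m).mapIso i ≪≫ j).symm)
    · intro s n P K C u π δ hT _ _ ih m s₀ M
      have hP : ∀ k : ℤ, Bij G ((S s₀).obj M) (((S s).obj P)⟦k⟧) := fun k => by
        obtain ⟨j⟩ := inS s k P
        exact (h s₀ (s + k) M P).of_iso G (Iso.refl _) j.symm
      refine Bij.target G _ (Triangle.shift_distinguished _ hT m) (hP m) (ih m s₀ M) ?_ ?_
      · exact (hP (m + 1)).of_iso G (Iso.refl _) ((shiftFunctorAdd' (Db A) m 1 (m + 1) rfl).app _)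
      · exact (ih (m + -1) s₀ M).of_iso G (Iso.refl _) ((shiftFunctorAdd' (Db A) m (-1) (m + -1) rfl).app _)
  obtain ⟨a', b', hY⟩ := exists_in Y
  have h₁' : ∀ (s₀ : ℤ) (M : A), Bij G ((S s₀).obj M) Y := fun s₀ M =>
    (h₁ (b' - a').toNat (-b') Y (hY.mono (by omega) (by omega)) 0 s₀ M).of_iso G (Iso.refl _)
      ((shiftFunctorZero (Db A) ℤ).app Y)
  obtain ⟨a, b, hX⟩ := exists_in X
  have h₂ : ∀ m : ℤ, Bij G (X⟦m⟧) Y := by
    refine induction_top (motive := fun K _ => ∀ m : ℤ, Bij G (K⟦m⟧) Y) ?_ ?_ (b - a).toNat (-b) X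
      (hX.mono (by omega) (by omega))
    · intro s N K i m
      obtain ⟨j⟩ := inS s m N
      exact (h₁' (s + m) N).of_iso G (((shiftFunctor (Db A) m).mapIso i ≪≫ j).symm) (Iso.refl _)
    · intro s n P K C u π δ hT _ _ ih m
      have hP : ∀ k : ℤ, Bij G (((S s).obj P)⟦k⟧) Y := fun k => by
        obtain ⟨j⟩ := inS s k P
        exact (h₁' (s + k) P).of_iso G j.symm (Iso.refl _)
      refine Bij.source G _ (Triangle.shift_distinguished _ hT m) (hP m) (ih m) ?_ ?_
      · exact (hP (m + 1)).of_iso G ((shiftFunctorAdd' (Db A) m 1 (m + 1) rfl).app _) (Iso.refl _)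
      · exact (ih (m + -1)).of_iso G ((shiftFunctorAdd' (Db A) m (-1) (m + -1) rfl).app _) (Iso.refl _)
  exact (h₂ 0).of_iso G ((shiftFunctorZero (Db A) ℤ).app X) (Iso.refl _)

end FullyFaithful

/-- full faithfulness passes to siblings -/
theorem full_faithful [F.Full] [F.Faithful] (e : DEquiv.singleB A ⋙ F ≅ DEquiv.singleB A ⋙ F') :
    F'.Full ∧ F'.Faithful := by
  have h : ∀ (s s' : ℤ) (M N : A), Bij F' ((S s).obj M) ((S s').obj N) := fun s s' M N => by
    have hc : ∀ f : (S s).obj M ⟶ (S s').obj N, F'.map f = inv (phi e s M) ≫ F.map f ≫ phi e s' N := fun f => by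
      rw [IsIso.eq_inv_comp]
      exact (compat_S' e f).symm
    refine ⟨fun a b hab => F.map_injective ?_, fun c => ?_⟩
    · rw [hc, hc] at hab
      exact (cancel_mono (phi e s' N)).1 ((cancel_epi (inv (phi e s M))).1 hab)
    · obtain ⟨f, hf⟩ := F.map_surjective (phi e s M ≫ c ≫ inv (phi e s' N))
      exact ⟨f, by rw [hc, hf]; simp⟩
  exact ⟨⟨fun {X Y} => (bij_of_single F' h X Y).2⟩, ⟨fun {X Y} => (bij_of_single F' h X Y).1⟩⟩

end Groth.Agent.Sibling
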