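import Groth.Agent.Sibling.Base

/-!
# Sibling functors out of the bounded derived category with enough negative objects
-/

set_option autoImplicit false
set_option linter.style.haveILetI false
set_option backward.isDefEq.respectTransparency false
set_option backward.isDefEq.respectTransparency.types false

universe w v u v' u'

open CategoryTheory Category Limits Pretriangulated DerivedCategory
open DerivedCategory.TStructure (t)

namespace Groth.Agent.Sibling

variable {A : Type u} [Category.{v} A] [Abelian A] [HasDerivedCategory.{w} A]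
  {D : Type u'} [Category.{v'} D] [Preadditive D] [HasZeroObject D] [HasShift D ℤ]
  [∀ n : ℤ, (shiftFunctor D n).Additive] [Pretriangulated D]
  {F F' : Db A ⥤ D} [F.CommShift ℤ] [F'.CommShift ℤ] [F.IsTriangulated] [F'.IsTriangulated]
  [F.Full]

/-- cohomology in an interval of length `n` -/
def W (n : ℕ) (K : Db A) : Prop := ∃ s : ℤ, In K (-s - n) (-s)

/-- a family of comparison isomorphisms natural on objects of width `n` -/
def IsNat (n : ℕ) (η : ∀ K : Db A, F.obj K ⟶ F'.obj K) : Prop :=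
  (∀ K, W n K → IsIso (η K)) ∧ ∀ (K L : Db A) (f : K ⟶ L), W n K → W n L → Compat f (η K) (η L)

/-- a comparison morphism compatible with all morphisms to objects of width `n` -/
def Good (n : ℕ) (η : ∀ K : Db A, F.obj K ⟶ F'.obj K) (K : Db A) (c : F.obj K ⟶ F'.obj K) : Prop :=
  ∀ (C : Db A) (g : K ⟶ C), W n C → Compat g c (η C)

lemma W.succ {n : ℕ} {K : Db A} (h : W n K) : W (n + 1) K := by
  obtain ⟨s, hs⟩ := h
  exact ⟨s, hs.mono (by push_cast; omega) le_rfl⟩

section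

variable (h2 : ∀ K : Db A, Nonempty (F.obj K ≅ F'.obj K))
include h2

lemma kill {K L C : Db A} {s : ℤ} {N : A} {u : (S s).obj N ⟶ L} {π : L ⟶ C}
    {δ : C ⟶ ((S s).obj N)⟦(1 : ℤ)⟧} (hT : Triangle.mk u π δ ∈ distTriang (Db A))
    (h0 : ∀ f : K ⟶ (S s).obj N, f = 0) (d : F.obj K ⟶ F'.obj L) (hd : d ≫ F'.map π = 0) : d = 0 := by
  obtain ⟨e, he⟩ := Triangle.coyoneda_exact₂ _ (F'.map_distinguished _ hT) d hd
  obtain ⟨i⟩ := h2 ((S s).obj N)
  let e' : F.obj K ⟶ F'.obj ((S s).obj N) := e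
  obtain ⟨f, hf⟩ := F.map_surjective (e' ≫ i.inv)
  have : e' = 0 := by
    rw [← cancel_mono i.inv, ← hf, h0 f, Functor.map_zero, zero_comp]
  rw [he]
  change e' ≫ F'.map u = 0
  rw [this, zero_comp]

end

omit [F.CommShift ℤ] [F'.CommShift ℤ] [F.IsTriangulated] [F'.IsTriangulated] [F.Full] in
lemma neg_hom {K : Db A} {a s s' : ℤ} (hK : In K a (-s)) {P N : A} {u : (S s).obj P ⟶ K} (hu : IsTop u)
    (h0 : ∀ f : P ⟶ N, f = 0) (hs : s' ≤ s) (f : K ⟶ (S s').obj N) : f = 0 := by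
  by_cases h : s' = s
  · subst h
    exact hu.hom_ext_zero hK h0 f
  · exact hK.zero (In_S s' N) (by omega) f

variable (hneg : ∀ X : A, ∃ (N : A) (p : N ⟶ X), Epi p ∧ ∀ f : X ⟶ N, f = 0)
  (h2 : ∀ K : Db A, Nonempty (F.obj K ≅ F'.obj K)) {n : ℕ} {η : ∀ K : Db A, F.obj K ⟶ F'.obj K}
  (hη : IsNat n η)

include hneg h2

omit hneg in
lemma In_cone_W {s : ℤ} {C : Db A} {a : ℤ} (ha : -s - 1 - n ≤ a) (hC : In C (min a (-s - 1)) (-s - 1)) :
    W n C :=
  ⟨s + 1, hC.mono (by omega) (by omega)⟩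

include hη in
/-- the comparison morphism on an object of width `n + 1` -/
lemma exists_good {K : Db A} {s : ℤ} (hK : In K (-s - (n + 1 : ℕ)) (-s)) :
    ∃ c : F.obj K ⟶ F'.obj K, IsIso c ∧ Good n η K c ∧ ∀ c', Good n η K c' → c' = c := by
  obtain ⟨P, v, hv⟩ := exists_isTop s hK
  obtain ⟨N₀, q₀, hq₀, h0⟩ := exists_neg hneg P P
  have hu₀ : IsTop ((S s).map q₀ ≫ v) := hv.precomp q₀
  have h0' : ∀ f : K ⟶ (S s).obj N₀, f = 0 := neg_hom hK hv h0 le_rfl
  -- completion of a morphism of triangles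
  have tr3 : ∀ (N : A) (u : (S s).obj N ⟶ K) (C : Db A) (π : K ⟶ C) (δ : C ⟶ ((S s).obj N)⟦(1 : ℤ)⟧),
      Triangle.mk u π δ ∈ distTriang (Db A) → W n C →
      ∃ c : F.obj K ⟶ F'.obj K, IsIso c ∧ Compat π c (η C) := by
    intro N u C π δ hT hC
    have hT₁ := rot_of_distTriang _ hT
    have hM : W n (((S s).obj N)⟦(1 : ℤ)⟧) := ⟨s + 1, (((In_S (s + 1) N).of_iso
      ((shiftFunctorAdd' (Db A) s 1 (s + 1) rfl).app _)).mono (by omega) le_rfl)⟩
    have hsq := hη.2 _ _ δ hC hM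
    obtain ⟨c₀, hc₁, hc₃⟩ := complete_distinguished_triangle_morphism₁ _ _ (F.map_distinguished _ hT₁)
      (F'.map_distinguished _ hT₁) (η C) (η _) hsq
    haveI := hη.1 _ hC
    haveI := hη.1 _ hM
    refine ⟨c₀, ?_, hc₁⟩
    exact isIso₁_of_isIso₂₃ (Triangle.homMk _ _ c₀ (η C) (η _) hc₁ hsq hc₃)
      (F.map_distinguished _ hT₁) (F'.map_distinguished _ hT₁) (hη.1 _ hC) (hη.1 _ hM)
  obtain ⟨C₀, π₀, δ₀, hT₀, hC₀⟩ := exists_cone hK _ hu₀
  have hW₀ : W n C₀ := In_cone_W h2 (by push_cast; omega) hC₀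
  obtain ⟨c, hci, hc⟩ := tr3 _ _ _ _ _ hT₀ hW₀
  have uniq : ∀ c' : F.obj K ⟶ F'.obj K, Compat π₀ c' (η C₀) → c' = c := fun c' hc' =>
    sub_eq_zero.1 (kill h2 hT₀ h0' _ (by rw [Preadditive.sub_comp, ← hc', ← hc, sub_self]))
  refine ⟨c, hci, ?_, fun c' hc' => uniq c' (hc' _ _ hW₀)⟩
  -- targets below the top degree of `K`
  have low : ∀ (C : Db A) (g : K ⟶ C) (a : ℤ), In C a (-s - 1) → W n C → Compat g c (η C) := by
    intro C g a hC hWC
    obtain ⟨N₁, q₁, hq₁, hg⟩ := exists_efface_S hC (((S s).map q₀ ≫ v) ≫ g)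
    have hu₁ : IsTop ((S s).map q₁ ≫ (S s).map q₀ ≫ v) := hu₀.precomp q₁
    obtain ⟨C₁, π₁, δ₁, hT₁, hC₁⟩ := exists_cone hK _ hu₁
    have hW₁ : W n C₁ := In_cone_W h2 (by push_cast; omega) hC₁
    obtain ⟨c₁, -, hc₁⟩ := tr3 _ _ _ _ _ hT₁ hW₁
    obtain ⟨w₀, hw₀⟩ := Triangle.yoneda_exact₂ _ hT₁ π₀ (by
      change ((S s).map q₁ ≫ (S s).map q₀ ≫ v) ≫ π₀ = 0
      rw [assoc]
      exact (congrArg ((S s).map q₁ ≫ ·) (comp_distTriang_mor_zero₁₂ _ hT₀)).trans comp_zero)
    let w : C₁ ⟶ C₀ := w₀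
    have h10 : c₁ = c := uniq c₁ (by
      rw [show π₀ = π₁ ≫ w from hw₀]
      exact hc₁.comp (hη.2 _ _ w hW₁ hW₀))
    obtain ⟨z₀, hz₀⟩ := Triangle.yoneda_exact₂ _ hT₁ g (by
      change ((S s).map q₁ ≫ (S s).map q₀ ≫ v) ≫ g = 0
      simpa using hg)
    let z : C₁ ⟶ C := z₀
    rw [show g = π₁ ≫ z from hz₀, ← h10]
    exact hc₁.comp (hη.2 _ _ z hW₁ hWC)
  have key : ∀ (j : ℕ) (s' : ℤ) (C : Db A) (g : K ⟶ C), In C (-s' - n) (-s') → s - s' + 1 ≤ (j : ℤ) →
      Compat g c (η C) := by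
    intro j
    induction j with
    | zero => exact fun s' C g hC hj => low C g _ (hC.mono le_rfl (by omega)) ⟨s', hC⟩
    | succ j ih =>
      intro s' C g hC hj
      by_cases h : s - s' + 1 ≤ (j : ℤ)
      · exact ih s' C g hC h
      obtain ⟨P', v', hv'⟩ := exists_isTop s' hC
      obtain ⟨N', q', hq', h0''⟩ := exists_neg hneg P' P
      obtain ⟨C', π', δ', hT', hC'⟩ := exists_cone hC _ (hv'.precomp q')
      have hC'' : In C' (-(s' + 1) - n) (-(s' + 1)) := hC'.mono (by omega) (by omega)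
      have hgπ := ih (s' + 1) C' (g ≫ π') hC'' (by omega)
      refine sub_eq_zero.1 (kill h2 hT' (neg_hom hK hv h0'' (by omega)) _ ?_)
      have hπ := hη.2 _ _ π' ⟨s', hC⟩ ⟨s' + 1, hC''⟩
      unfold Compat at hgπ hπ
      rw [Functor.map_comp, Functor.map_comp] at hgπ
      rw [Preadditive.sub_comp, assoc, assoc, ← hπ, ← assoc, ← assoc]
      simpa using sub_eq_zero.2 hgπ
  intro C g hC
  obtain ⟨s', hs'⟩ := hC
  exact key (s - s' + 1).toNat s' C g hs' (by omega)

include hη in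
/-- extension to width `n + 1` -/
lemma exists_succ :
    ∃ η' : ∀ K : Db A, F.obj K ⟶ F'.obj K, IsNat (n + 1) η' ∧ ∀ K, W n K → η' K = η K := by
  have hex : ∀ K : Db A, W (n + 1) K → ∃ c : F.obj K ⟶ F'.obj K,
      IsIso c ∧ Good n η K c ∧ ∀ c', Good n η K c' → c' = c :=
    fun K ⟨s, hs⟩ => exists_good hneg h2 hη hs
  classical
  let η' : ∀ K : Db A, F.obj K ⟶ F'.obj K := fun K =>
    if h : W (n + 1) K then (hex K h).choose else 0
  have hgood : ∀ K, W (n + 1) K → Good n η K (η' K) := fun K h => by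
    simp only [η', dif_pos h]; exact (hex K h).choose_spec.2.1
  have hagree : ∀ K, W n K → η' K = η K := fun K h => by
    simp only [η', dif_pos h.succ]
    exact ((hex K h.succ).choose_spec.2.2 _ fun C g hC => hη.2 _ _ g h hC).symm
  refine ⟨η', ⟨fun K h => by simp only [η', dif_pos h]; exact (hex K h).choose_spec.1, ?_⟩, hagree⟩
  have key : ∀ (j : ℕ) (K L : Db A) (f : K ⟶ L) (s s' : ℤ), In K (-s - (n + 1 : ℕ)) (-s) →
      In L (-s' - (n + 1 : ℕ)) (-s') → s' - s ≤ (j : ℤ) → Compat f (η' K) (η' L) := by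
    intro j
    induction j with
    | zero =>
      intro K L f s s' hK hL hj
      obtain ⟨P, v, hv⟩ := exists_isTop s hK
      obtain ⟨P', v', hv'⟩ := exists_isTop s' hL
      obtain ⟨N', q', hq', h0⟩ := exists_neg hneg P' P
      obtain ⟨C', π', δ', hT', hC'⟩ := exists_cone hL _ (hv'.precomp q')
      have hW : W n C' := In_cone_W h2 (by push_cast; omega) hC'
      have h1 := hgood K ⟨s, hK⟩ C' (f ≫ π') hW
      have hπ := hgood L ⟨s', hL⟩ C' π' hW
      refine sub_eq_zero.1 (kill h2 hT' (neg_hom hK hv h0 (by omega)) _ ?_)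
      unfold Compat at h1 hπ
      rw [Functor.map_comp, Functor.map_comp] at h1
      rw [Preadditive.sub_comp, assoc, assoc, ← hπ, ← assoc, ← assoc]
      simpa using sub_eq_zero.2 h1
    | succ j ih =>
      intro K L f s s' hK hL hj
      by_cases h : s' - s ≤ (j : ℤ)
      · exact ih K L f s s' hK hL h
      obtain ⟨P, v, hv⟩ := exists_isTop s hK
      obtain ⟨N, q, hq, hqf⟩ := exists_efface_S (hL.mono le_rfl (by omega)) (v ≫ f)
      obtain ⟨C, π, δ, hT, hC⟩ := exists_cone hK _ (hv.precomp q)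
      have hW : W n C := In_cone_W h2 (by push_cast; omega) hC
      obtain ⟨g₀, hg₀⟩ := Triangle.yoneda_exact₂ _ hT f (by
        change ((S s).map q ≫ v) ≫ f = 0
        simpa using hqf)
      let g : C ⟶ L := g₀
      rw [show f = π ≫ g from hg₀]
      refine (hgood K ⟨s, hK⟩ C π hW).comp ?_
      rw [← hagree C hW]
      exact ih C L g (s + 1) s' (hC.mono (by push_cast; omega) (by omega)) hL (by omega)
  intro K L f hK hL
  obtain ⟨s, hK⟩ := hK
  obtain ⟨s', hL⟩ := hL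
  exact key (s' - s).toNat K L f s s' hK hL (by omega)

omit hneg h2 in
lemma exists_zero [F.Faithful] (e : DEquiv.singleB A ⋙ F ≅ DEquiv.singleB A ⋙ F') :
    ∃ η : ∀ K : Db A, F.obj K ⟶ F'.obj K, IsNat 0 η := by
  classical
  have hex : ∀ K : Db A, W 0 K → ∃ (s : ℤ) (M : A), Nonempty (K ≅ (S s).obj M) := fun K ⟨s, hs⟩ =>
    ⟨s, exists_iso_S (hs.mono (by simp) le_rfl)⟩
  let η : ∀ K : Db A, F.obj K ⟶ F'.obj K := fun K =>
    if h : W 0 K then F.map (hex K h).choose_spec.choose_spec.some.hom ≫ phi e _ _ ≫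
      F'.map (hex K h).choose_spec.choose_spec.some.inv else 0
  refine ⟨η, fun K h => by simp only [η, dif_pos h]; infer_instance, fun K L f hK hL => ?_⟩
  set i := (hex K hK).choose_spec.choose_spec.some with hi
  set i' := (hex L hL).choose_spec.choose_spec.some with hi'
  have h1 : Compat i.hom (η K) (phi e _ _) := by
    simp only [η, dif_pos hK, Compat, assoc, ← Functor.map_comp, ← hi, Iso.inv_hom_id, CategoryTheory.Functor.map_id,
      comp_id]
  have h1' : Compat i'.hom (η L) (phi e _ _) := by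
    simp only [η, dif_pos hL, Compat, assoc, ← Functor.map_comp, ← hi', Iso.inv_hom_id, CategoryTheory.Functor.map_id,
      comp_id]
  have h3 : Compat (i.inv ≫ f ≫ i'.hom) (phi e _ _) (phi e _ _) := compat_S' e _
  have := (h1.comp h3).comp h1'.of_iso_hom
  simpa using this

/-- **Sibling functors with fully faithful first member are isomorphic.** -/
theorem iso_of_sibling [F.Faithful] (e : DEquiv.singleB A ⋙ F ≅ DEquiv.singleB A ⋙ F') :
    Nonempty (F ≅ F') := by
  let E : ∀ n : ℕ, {η : ∀ K : Db A, F.obj K ⟶ F'.obj K // IsNat n η} := fun n =>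
    Nat.rec ⟨_, (exists_zero (F := F) (F' := F') e).choose_spec⟩
      (fun _ p => ⟨_, (exists_succ hneg h2 p.2).choose_spec.1⟩) n
  have hE : ∀ (n : ℕ) (K : Db A), W n K → (E (n + 1)).1 K = (E n).1 K := fun n =>
    (exists_succ hneg h2 (E n).2).choose_spec.2
  have hmono : ∀ (n k : ℕ) (K : Db A), W n K → W (n + k) K ∧ (E (n + k)).1 K = (E n).1 K := by
    intro n k K hK
    induction k with
    | zero => exact ⟨hK, rfl⟩
    | succ k ih => exact ⟨ih.1.succ, (hE _ K ih.1).trans ih.2⟩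
  have hN : ∀ K : Db A, ∃ n : ℕ, W n K := fun K => by
    obtain ⟨a, b, h⟩ := exists_in K
    exact ⟨(b - a).toNat, -b, h.mono (by omega) (by omega)⟩
  choose N hN using hN
  haveI : ∀ K, IsIso ((E (N K)).1 K) := fun K => (E (N K)).2.1 K (hN K)
  refine ⟨NatIso.ofComponents (fun K => asIso ((E (N K)).1 K)) fun {K L} f => ?_⟩
  obtain ⟨k, hk⟩ : ∃ k, N K + k = max (N K) (N L) := ⟨max (N K) (N L) - N K, by omega⟩
  obtain ⟨l, hl⟩ : ∃ l, N L + l = max (N K) (N L) := ⟨max (N K) (N L) - N L, by omega⟩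
  have h1 := hmono (N K) k K (hN K)
  have h1' := hmono (N L) l L (hN L)
  rw [hk] at h1
  rw [hl] at h1'
  have := (E (max (N K) (N L))).2.2 K L f h1.1 h1'.1
  unfold Compat at this
  rw [h1.2, h1'.2] at this
  exact this

end Groth.Agent.Sibling
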