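import Groth.Agent.Sibling.Basic

/-!
# Sibling functors on shifted objects of the heart
-/

set_option autoImplicit false
set_option linter.style.haveILetI false
set_option backward.isDefEq.respectTransparency false
set_option backward.isDefEq.respectTransparency.types false

universe w v u v' u'

open CategoryTheory Category Limits Pretriangulated DerivedCategory
open DerivedCategory.TStructure (t)

namespace Groth.Agent.Sibling

variable {A : Type u} [Category.{v} A] [Abelian A] [HasDerivedCategory.{w} A]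
  {D : Type u'} [Category.{v'} D] [Preadditive D] [HasZeroObject D] [HasShift D ℤ]
  [∀ n : ℤ, (shiftFunctor D n).Additive] [Pretriangulated D]
  (F F' : Db A ⥤ D) [F.CommShift ℤ] [F'.CommShift ℤ]

section

variable {F F'}

/-- compatibility of two comparison morphisms with a morphism -/
def Compat {X Y : Db A} (f : X ⟶ Y) (φ : F.obj X ⟶ F'.obj X) (ψ : F.obj Y ⟶ F'.obj Y) : Prop :=
  F.map f ≫ ψ = φ ≫ F'.map f

omit [F.CommShift ℤ] [F'.CommShift ℤ] in
lemma Compat.comp {X Y Z : Db A} {f : X ⟶ Y} {g : Y ⟶ Z} {φ : F.obj X ⟶ F'.obj X}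
    {ψ : F.obj Y ⟶ F'.obj Y} {χ : F.obj Z ⟶ F'.obj Z} (hf : Compat f φ ψ) (hg : Compat g ψ χ) :
    Compat (f ≫ g) φ χ := by
  unfold Compat at *
  rw [Functor.map_comp, Functor.map_comp, assoc, hg, reassoc_of% hf]

omit [F.CommShift ℤ] [F'.CommShift ℤ] in
lemma Compat.of_iso_hom {X Y : Db A} {e : X ≅ Y} {φ : F.obj X ⟶ F'.obj X} {ψ : F.obj Y ⟶ F'.obj Y}
    (h : Compat e.hom φ ψ) : Compat e.inv ψ φ := by
  unfold Compat at *
  rw [← cancel_epi (F.map e.hom), ← cancel_mono (F'.map e.hom)]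
  simp only [assoc, reassoc_of% h]
  simp [← Functor.map_comp, ← Functor.map_comp_assoc]

end

/-- shift of a comparison morphism -/
noncomputable def sh {X : Db A} (φ : F.obj X ⟶ F'.obj X) (m : ℤ) : F.obj (X⟦m⟧) ⟶ F'.obj (X⟦m⟧) :=
  (F.commShiftIso m).hom.app X ≫ φ⟦m⟧' ≫ (F'.commShiftIso m).inv.app X

variable {F F'}

instance {X : Db A} (φ : F.obj X ⟶ F'.obj X) [IsIso φ] (m : ℤ) : IsIso (sh F F' φ m) := by
  unfold sh; infer_instance

lemma Compat.shift {X Y : Db A} {f : X ⟶ Y} {φ : F.obj X ⟶ F'.obj X} {ψ : F.obj Y ⟶ F'.obj Y}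
    (h : Compat f φ ψ) (m : ℤ) : Compat (f⟦m⟧') (sh F F' φ m) (sh F F' ψ m) := by
  unfold Compat sh at *
  have h1 := (F.commShiftIso m).hom.naturality f
  have h2 := (F'.commShiftIso m).inv.naturality f
  dsimp at h1 h2
  rw [reassoc_of% h1, ← Functor.map_comp_assoc, h, Functor.map_comp, assoc, assoc, assoc, h2]

lemma compat_shiftAdd {X : Db A} (φ : F.obj X ⟶ F'.obj X) {i j k : ℤ} (h : i + j = k) :
    Compat ((shiftFunctorAdd' (Db A) i j k h).inv.app X) (sh F F' (sh F F' φ i) j) (sh F F' φ k) := by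
  unfold Compat sh
  rw [F.commShiftIso_add' h, F'.commShiftIso_add' h]
  simp only [Functor.CommShift.isoAdd'_hom_app, Functor.CommShift.isoAdd'_inv_app, Functor.map_comp,
    assoc]
  rw [← F.map_comp_assoc, Iso.inv_hom_id_app, CategoryTheory.Functor.map_id, id_comp]
  have h3 := (shiftFunctorAdd' D i j k h).inv.naturality φ
  dsimp at h3
  rw [← reassoc_of% h3, Iso.inv_hom_id_app_assoc]

variable (e : DEquiv.singleB A ⋙ F ≅ DEquiv.singleB A ⋙ F')

/-- the comparison on shifted objects of the heart -/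
noncomputable def phi (s : ℤ) (M : A) : F.obj ((S s).obj M) ⟶ F'.obj ((S s).obj M) :=
  sh F F' (e.hom.app M) s

instance (s : ℤ) (M : A) : IsIso (phi e s M) := by
  unfold phi; infer_instance

lemma compat_S_map (s : ℤ) {M N : A} (q : M ⟶ N) : Compat ((S s).map q) (phi e s M) (phi e s N) :=
  Compat.shift (e.hom.naturality q) s

variable [F.IsTriangulated] [F'.IsTriangulated] [F.Full] [F.Faithful]

lemma compat_S (s : ℤ) (M : A) : ∀ (n : ℕ) (s' : ℤ) (N : A) (f : (S s).obj M ⟶ (S s').obj N),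
    (s' - s : ℤ) ≤ n → Compat f (phi e s M) (phi e s' N) := by
  intro n
  induction n generalizing s M with
  | zero =>
    intro s' N f hle
    by_cases h : s' = s
    · subst h
      obtain ⟨q, rfl⟩ := S_map_surjective _ f
      exact compat_S_map e _ q
    · rw [(In_S s M).zero (In_S s' N) (by omega) f]
      simp [Compat]
  | succ n ih =>
    intro s' N f hle
    by_cases h : (s' - s : ℤ) ≤ n
    · exact ih s M s' N f h
    obtain ⟨M₁, q, hq, hqf⟩ := exists_efface_S ((In_S s' N).mono le_rfl (by omega)) f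
    have hu : IsTop ((S s).map q ≫ 𝟙 ((S s).obj M)) := IsTop.precomp (by
      unfold IsTop; rw [CategoryTheory.Functor.map_id, CategoryTheory.Functor.map_id]; infer_instance) q
    rw [comp_id] at hu
    obtain ⟨C, π, δ, hT, hC⟩ := exists_cone (a := -s) (In_S s M) ((S s).map q) hu
    obtain ⟨K, ⟨i⟩⟩ := exists_iso_S (X := C) (s := s + 1) (hC.mono (by omega) (by omega))
    obtain ⟨g₀, hg⟩ := Triangle.yoneda_exact₂ _ hT f hqf
    let g : C ⟶ (S s').obj N := g₀
    change f = π ≫ g at hg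
    obtain ⟨c₀, hc₂, hc₃⟩ := complete_distinguished_triangle_morphism _ _ (F.map_distinguished _ hT)
      (F'.map_distinguished _ hT) (phi e s M₁) (phi e s M) (compat_S_map e s q)
    let c : F.obj C ⟶ F'.obj C := c₀
    change F.map π ≫ c = phi e s M ≫ F'.map π at hc₂
    change (F.map δ ≫ (F.commShiftIso (1 : ℤ)).hom.app ((S s).obj M₁)) ≫ (phi e s M₁)⟦(1 : ℤ)⟧' =
      c ≫ F'.map δ ≫ (F'.commShiftIso (1 : ℤ)).hom.app ((S s).obj M₁) at hc₃
    have hδ : Compat δ c (sh F F' (phi e s M₁) 1) := by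
      unfold Compat sh
      rw [← cancel_mono ((F'.commShiftIso (1 : ℤ)).hom.app ((S s).obj M₁))]
      simp only [assoc, Iso.inv_hom_id_app]
      simpa using hc₃
    let ψ : F.obj C ⟶ F'.obj C := F.map i.hom ≫ phi e (s + 1) K ≫ F'.map i.inv
    have hi : Compat i.hom ψ (phi e (s + 1) K) := by simp [Compat, ψ, ← Functor.map_comp]
    let j : ((S s).obj M₁)⟦(1 : ℤ)⟧ ≅ (S (s + 1)).obj M₁ :=
      ((shiftFunctorAdd' (Db A) s 1 (s + 1) rfl).app _).symm
    have hj : Compat j.hom (sh F F' (phi e s M₁) 1) (phi e (s + 1) M₁) := compat_shiftAdd _ rfl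
    have hm : Compat (i.inv ≫ δ ≫ j.hom) (phi e (s + 1) K) (phi e (s + 1) M₁) := by
      obtain ⟨m, hm⟩ := S_map_surjective _ (i.inv ≫ δ ≫ j.hom)
      rw [← hm]
      exact compat_S_map e _ m
    have hψ : Compat δ ψ (sh F F' (phi e s M₁) 1) := by
      have := (hi.comp hm).comp hj.of_iso_hom
      simpa using this
    haveI : IsIso ψ := by simp only [ψ]; infer_instance
    obtain ⟨d, hd⟩ := F.map_surjective ((c - ψ) ≫ inv ψ)
    have hd0 : d = 0 := by
      have h1 : d ≫ δ = 0 := F.map_injective (by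
        rw [F.map_comp, hd, Functor.map_zero, ← cancel_mono (sh F F' (phi e s M₁) 1), zero_comp, assoc, hψ,
          assoc, IsIso.inv_hom_id_assoc, Preadditive.sub_comp, ← hδ, ← hψ, sub_self])
      obtain ⟨w, hw⟩ := Triangle.coyoneda_exact₃ _ hT d h1
      rw [hw]
      exact (congrArg (· ≫ π) (hC.zero (In_S s M) (by omega) w)).trans zero_comp
    have hcψ : c = ψ := by
      rw [hd0, Functor.map_zero] at hd
      rw [← sub_eq_zero, ← cancel_mono (inv ψ), zero_comp, ← hd]
    have hg' : Compat (i.inv ≫ g) (phi e (s + 1) K) (phi e s' N) := ih (s + 1) K s' N _ (by omega)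
    rw [hcψ] at hc₂
    have := (Compat.comp (f := π) hc₂ hi).comp hg'
    rw [hg]
    simpa using this

lemma compat_S' {s s' : ℤ} {M N : A} (f : (S s).obj M ⟶ (S s').obj N) :
    Compat f (phi e s M) (phi e s' N) :=
  compat_S e s M (s' - s).toNat s' N f (by omega)

end Groth.Agent.Sibling
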