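import Groth.Prelude.Def_W4stkfunctorsequivSib
import Mathlib.Algebra.Homology.DerivedCategory.HomologySequence
import Mathlib.Algebra.Homology.DerivedCategory.FullyFaithful
import Mathlib.Algebra.Homology.DerivedCategory.SingleTriangle
import Mathlib.CategoryTheory.Limits.Shapes.Biproducts
import Mathlib.CategoryTheory.Triangulated.TStructure.TruncLTGE

/-!
# Covers and effacement in the bounded derived category
-/

set_option autoImplicit false
set_option linter.style.haveILetI false
set_option backward.isDefEq.respectTransparency false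
set_option backward.isDefEq.respectTransparency.types false

universe w v u

open CategoryTheory Category Limits Pretriangulated DerivedCategory
open DerivedCategory.TStructure (t)

namespace Groth.Agent.Sibling

variable {A : Type u} [Category.{v} A] [Abelian A] [HasDerivedCategory.{w} A]

section Derived

/-- a morphism of complexes from a single object onto the top degree is surjective on cohomology -/
lemma exists_top (b : ℤ) (K : DerivedCategory A) [K.IsLE b] :
    ∃ (P : A) (ζ : (singleFunctor A b).obj P ⟶ K), Epi ((homologyFunctor A b).map ζ) := by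
  obtain ⟨L, hL, ⟨e⟩⟩ := K.exists_iso_Q_obj_of_isLE b
  let f : (HomologicalComplex.single A (ComplexShape.up ℤ) b).obj (L.X b) ⟶ L :=
    HomologicalComplex.mkHomFromSingle (𝟙 _) (fun j hj => by
      simp only [ComplexShape.up_Rel] at hj
      exact (L.isZero_of_isStrictlyLE b j (by omega)).eq_of_tgt _ _)
  haveI : IsIso (f.f b) := by
    simp only [f, HomologicalComplex.mkHomFromSingle_f, comp_id]
    infer_instance
  have hd : ∀ M : CochainComplex A ℤ, M.IsStrictlyLE b → IsIso (M.iCycles b) := fun M hM =>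
    M.isIso_iCycles b (b + 1) (by simp) ((M.isZero_of_isStrictlyLE b (b + 1) (by omega)).eq_of_tgt _ _)
  haveI := hd L hL
  haveI hs : IsIso (HomologicalComplex.iCycles
      ((HomologicalComplex.single A (ComplexShape.up ℤ) b).obj (L.X b)) b) :=
    hd _ inferInstance
  haveI : IsIso (HomologicalComplex.cyclesMap f b) := by
    have h1 := HomologicalComplex.cyclesMap_i f b
    haveI : IsIso (HomologicalComplex.cyclesMap f b ≫ L.iCycles b) := by rw [h1]; infer_instance
    exact IsIso.of_isIso_comp_right _ (L.iCycles b)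
  haveI : Epi (HomologicalComplex.homologyMap f b) := by
    have h2 := HomologicalComplex.homologyπ_naturality f b
    haveI : Epi (HomologicalComplex.homologyπ _ b ≫ HomologicalComplex.homologyMap f b) := by
      rw [h2]; infer_instance
    exact epi_of_epi (HomologicalComplex.homologyπ _ b) _
  let g : (singleFunctor A b).obj (L.X b) ⟶ Q.obj L :=
    ((singleFunctorIsoCompQ A b).app (L.X b)).hom ≫ Q.map f
  refine ⟨L.X b, g ≫ e.inv, ?_⟩
  haveI : Epi ((homologyFunctor A b).map (Q.map f)) := by
    have h3 := NatIso.naturality_2 (homologyFunctorFactors A b) f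
    dsimp at h3
    haveI : Epi ((HomologicalComplex.homologyFunctor A (ComplexShape.up ℤ) b).map f) := by
      exact (inferInstance : Epi (HomologicalComplex.homologyMap f b))
    rw [← h3]
    infer_instance
  rw [Functor.map_comp, Functor.map_comp]
  infer_instance

lemma epi_single_map_iff {b : ℤ} {M N : A} (q : M ⟶ N) :
    Epi ((homologyFunctor A b).map ((singleFunctor A b).map q)) ↔ Epi q :=
  (MorphismProperty.epimorphisms A).arrow_mk_iso_iff
    (Arrow.isoMk ((singleFunctorCompHomologyFunctorIso A b).app M)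
      ((singleFunctorCompHomologyFunctorIso A b).app N)
      ((singleFunctorCompHomologyFunctorIso A b).hom.naturality q).symm)

/-- effacement of morphisms from a single object to objects in lower degrees -/
lemma exists_efface {b : ℤ} {P : A} {C : DerivedCategory A} [C.IsLE (b - 1)]
    (g : (singleFunctor A b).obj P ⟶ C) :
    ∃ (N : A) (q : N ⟶ P), Epi q ∧ (singleFunctor A b).map q ≫ g = 0 := by
  obtain ⟨X, s, c, hT⟩ := distinguished_cocone_triangle₁ g
  haveI : X.IsLE b := by
    rw [isLE_iff]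
    intro i hi
    exact (HomologySequence.exact₁ _ hT (i - 1) i (by omega)).isZero_of_both_isZero
      (isZero_of_isLE C (b - 1) (i - 1) (by omega))
      (isZero_of_isLE ((singleFunctor A b).obj P) b i hi)
  obtain ⟨N, ζ, hζ⟩ := exists_top b X
  obtain ⟨q, hq⟩ := (singleFunctor A b).map_surjective (ζ ≫ s)
  refine ⟨N, q, ?_, ?_⟩
  · rw [← epi_single_map_iff (b := b), hq, Functor.map_comp]
    haveI : Epi ((homologyFunctor A b).map s) :=
      (HomologySequence.epi_homologyMap_mor₁_iff _ hT b).2
        ((isZero_of_isLE C (b - 1) b (by omega)).eq_of_tgt _ _)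
    infer_instance
  · rw [hq, assoc]
    have h0 : s ≫ g = 0 := comp_distTriang_mor_zero₁₂ _ hT
    rw [h0, comp_zero]

end Derived

/-- `D^b(A)` -/
abbrev Db (A : Type u) [Category.{v} A] [Abelian A] [HasDerivedCategory.{w} A] : Type max u v :=
  DerivedCategory.Bounded A

/-- an object placed in degree `-s` -/
noncomputable abbrev S (s : ℤ) : A ⥤ Db A := DEquiv.singleB A ⋙ shiftFunctor (Db A) s

instance : (DEquiv.singleB A).Additive where
  map_add {_ _ f g} := (Bounded.ι).map_injective (by
    change (singleFunctor A 0).map (f + g) = (singleFunctor A 0).map f + (singleFunctor A 0).map g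
    exact (singleFunctor A 0).map_add)

/-- comparison with the single functor of the derived category -/
noncomputable def SIso (s : ℤ) : S (A := A) s ⋙ Bounded.ι ≅ singleFunctor A (-s) :=
  Functor.associator _ _ _ ≪≫ Functor.isoWhiskerLeft _ ((Bounded.ι (C := A)).commShiftIso s) ≪≫
    (Functor.associator _ _ _).symm ≪≫
    Functor.isoWhiskerRight (ObjectProperty.liftCompιIso _ _ _) _ ≪≫
    (singleFunctors A).shiftIso s (-s) 0 (by omega)

/-- `X` has cohomology in degrees `[a, b]` only -/
def In (X : Db A) (a b : ℤ) : Prop := (Bounded.ι.obj X).IsGE a ∧ (Bounded.ι.obj X).IsLE b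

lemma In.mono {X : Db A} {a b a' b' : ℤ} (h : In X a b) (ha : a' ≤ a) (hb : b ≤ b') : In X a' b' :=
  ⟨have := h.1; t.isGE_of_ge (Bounded.ι.obj X) a' a ha, have := h.2; t.isLE_of_le (Bounded.ι.obj X) b b' hb⟩

lemma In.of_iso {X Y : Db A} {a b : ℤ} (h : In X a b) (e : X ≅ Y) : In Y a b :=
  ⟨have := h.1; t.isGE_of_iso ((Bounded.ι).mapIso e) a, have := h.2; t.isLE_of_iso ((Bounded.ι).mapIso e) b⟩

lemma In.zero {X Y : Db A} {a b a' b' : ℤ} (hX : In X a b) (hY : In Y a' b') (h : b < a') (f : X ⟶ Y) :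
    f = 0 := by
  refine (Bounded.ι).map_injective ?_
  rw [Functor.map_zero]
  have := hX.2
  have := hY.1
  exact t.zero _ b a' h

lemma In_S (s : ℤ) (M : A) : In ((S s).obj M) (-s) (-s) :=
  ⟨t.isGE_of_iso ((SIso s).app M).symm (-s), t.isLE_of_iso ((SIso s).app M).symm (-s)⟩

lemma exists_in (X : Db A) : ∃ a b : ℤ, In X a b := by
  obtain ⟨⟨a, ha⟩, ⟨b, hb⟩⟩ := X.property
  exact ⟨a, b, ha, hb⟩

lemma exists_iso_S {X : Db A} {s : ℤ} (h : In X (-s) (-s)) : ∃ M : A, Nonempty (X ≅ (S s).obj M) := by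
  have := h.1
  have := h.2
  obtain ⟨M, ⟨e⟩⟩ := exists_iso_singleFunctor_obj_of_isGE_of_isLE (Bounded.ι.obj X) (-s)
  exact ⟨M, ⟨(Bounded.ι).preimageIso (e ≪≫ ((SIso s).app M).symm)⟩⟩

lemma S_map_surjective (s : ℤ) {M N : A} (f : (S s).obj M ⟶ (S s).obj N) :
    ∃ q : M ⟶ N, (S s).map q = f := by
  obtain ⟨q, hq⟩ := (singleFunctor A (-s)).map_surjective
    ((SIso s).inv.app M ≫ (Bounded.ι).map f ≫ (SIso s).hom.app N)
  refine ⟨q, (Bounded.ι).map_injective ?_⟩
  rw [← cancel_mono ((SIso s).hom.app N)]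
  have := (SIso (A := A) s).hom.naturality q
  dsimp at this ⊢
  rw [this, hq]
  simp

/-- surjective on cohomology in degree `-s` -/
def IsTop {s : ℤ} {M : A} {K : Db A} (u : (S s).obj M ⟶ K) : Prop :=
  Epi ((homologyFunctor A (-s)).map ((Bounded.ι).map u))

lemma exists_isTop {K : Db A} {a : ℤ} (s : ℤ) (h : In K a (-s)) :
    ∃ (M : A) (u : (S s).obj M ⟶ K), IsTop u := by
  have := h.2
  obtain ⟨M, ζ, hζ⟩ := exists_top (-s) (Bounded.ι.obj K)
  refine ⟨M, (Bounded.ι).preimage ((SIso s).hom.app M ≫ ζ), ?_⟩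
  rw [IsTop, Functor.map_preimage, Functor.map_comp]
  infer_instance

lemma IsTop.precomp {s : ℤ} {M N : A} {K : Db A} {u : (S s).obj M ⟶ K} (hu : IsTop u) (q : N ⟶ M) [Epi q] :
    IsTop ((S s).map q ≫ u) := by
  unfold IsTop at hu ⊢
  haveI := hu
  rw [Functor.map_comp, Functor.map_comp]
  have h1 : (Bounded.ι).map ((S s).map q) =
      (SIso s).hom.app N ≫ (singleFunctor A (-s)).map q ≫ (SIso s).inv.app M := by
    have := (SIso (A := A) s).hom.naturality q
    dsimp at this
    rw [← reassoc_of% this]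
    simp
  haveI : Epi ((homologyFunctor A (-s)).map ((singleFunctor A (-s)).map q)) :=
    (epi_single_map_iff q).2 inferInstance
  rw [h1, Functor.map_comp, Functor.map_comp]
  infer_instance

lemma exists_efface_S {s : ℤ} {P : A} {C : Db A} {a : ℤ} (hC : In C a (-s - 1)) (g : (S s).obj P ⟶ C) :
    ∃ (N : A) (q : N ⟶ P), Epi q ∧ (S s).map q ≫ g = 0 := by
  have := hC.2
  obtain ⟨N, q, hq, h0⟩ := exists_efface (b := -s) ((SIso s).inv.app P ≫ (Bounded.ι).map g)
  refine ⟨N, q, hq, (Bounded.ι).map_injective ?_⟩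
  rw [← cancel_epi ((SIso s).inv.app N), Functor.map_comp, Functor.map_zero, comp_zero]
  have := (SIso (A := A) s).inv.naturality q
  dsimp at this
  rw [← h0, reassoc_of% this]
  rfl

/-- the cone of a morphism which is surjective on top cohomology -/
lemma exists_cone {s : ℤ} {M : A} {K : Db A} {a : ℤ} (hK : In K a (-s)) (u : (S s).obj M ⟶ K) (hu : IsTop u) :
    ∃ (C : Db A) (π : K ⟶ C) (δ : C ⟶ ((S s).obj M)⟦(1 : ℤ)⟧),
      Triangle.mk u π δ ∈ distTriang (Db A) ∧ In C (min a (-s - 1)) (-s - 1) := by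
  obtain ⟨C, π, δ, hT⟩ := distinguished_cocone_triangle u
  refine ⟨C, π, δ, hT, ?_⟩
  have hT' := (Bounded.ι).map_distinguished _ hT
  have h1 := In_S s M
  have hM₁ := h1.1
  have hM₂ := h1.2
  have := hK.1
  have := hK.2
  unfold IsTop at hu
  constructor
  · refine (isGE_iff _ _).2 fun i hi => ?_
    exact (HomologySequence.exact₃ _ hT' i (i + 1) rfl).isZero_of_both_isZero
      (isZero_of_isGE (Bounded.ι.obj K) a i (by omega))
      (isZero_of_isGE (Bounded.ι.obj ((S s).obj M)) (-s) (i + 1) (by omega))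
  · refine (isLE_iff _ _).2 fun i hi => ?_
    have h2 : (homologyFunctor A i).map ((Bounded.ι).map π) = 0 := by
      by_cases h : i = -s
      · subst h
        exact (HomologySequence.epi_homologyMap_mor₁_iff _ hT' (-s)).1 hu
      · exact (isZero_of_isLE (Bounded.ι.obj K) (-s) i (by omega)).eq_of_src _ _
    exact (HomologySequence.exact₃ _ hT' i (i + 1) rfl).isZero_of_both_zeros h2
      ((isZero_of_isLE (Bounded.ι.obj ((S s).obj M)) (-s) (i + 1) (by omega)).eq_of_tgt _ _)

/-- morphisms to a single object in the top degree are detected on a cover -/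
lemma IsTop.hom_ext_zero {s : ℤ} {M N : A} {K : Db A} {a : ℤ} (hK : In K a (-s)) {u : (S s).obj M ⟶ K}
    (hu : IsTop u) (h0 : ∀ f : M ⟶ N, f = 0) (f : K ⟶ (S s).obj N) : f = 0 := by
  obtain ⟨C, π, δ, hT, hC⟩ := exists_cone hK u hu
  have h1 : u ≫ f = 0 := by
    obtain ⟨q, hq⟩ := S_map_surjective s (u ≫ f)
    rw [← hq, h0 q, Functor.map_zero]
  obtain ⟨g, hg⟩ := Triangle.yoneda_exact₂ _ hT f h1
  rw [hg]
  exact (congrArg (π ≫ ·) (hC.zero (In_S s N) (by omega) g)).trans comp_zero

omit [HasDerivedCategory.{w} A] in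
/-- negative covers with respect to two objects -/
lemma exists_neg (hneg : ∀ X : A, ∃ (N : A) (p : N ⟶ X), Epi p ∧ ∀ f : X ⟶ N, f = 0) (P P' : A) :
    ∃ (N : A) (q : N ⟶ P), Epi q ∧ ∀ f : P' ⟶ N, f = 0 := by
  obtain ⟨N, p, hp, h0⟩ := hneg (P ⊞ P')
  refine ⟨N, p ≫ biprod.fst, inferInstance, fun f => ?_⟩
  rw [← cancel_epi (biprod.snd : P ⊞ P' ⟶ P'), comp_zero]
  exact h0 _

end Groth.Agent.Sibling
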